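import Groth.Agent.Lib.Chevalley.GroupQuot
import Groth.Agent.Lib.Chevalley.AffineQuot
import Groth.Agent.Lib.Hopf.Points
import Groth.Prelude.Def_SGA3

/-!
A normal subgroup of an affine algebraic group is cut out by invariant functions.
-/

universe u

open CategoryTheory CategoryTheory.Limits MonoidalCategory CartesianMonoidalCategory MonObj GrpObj
open AlgebraicGeometry WithConv
open scoped GrothLib.Chevalley

set_option linter.style.haveILetI false

namespace GrothLib.NormalKerRep

variable {k : Type u} [Field k] {A : Type u} [CommRing A] [HopfAlgebra k A]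

local notation "S" => Spec (CommRingCat.of k)
local notation "GA" => Scheme.asOver (Spec (CommRingCat.of A)) (Spec (CommRingCat.of k))

/-- Evaluating the pullback of a global function at a point. -/
theorem appTop_pt {R : Type u} [CommRing R] [Algebra k R] {Q : Over S} (q : GA ⟶ Q)
    (x : WithConv (A →ₐ[k] R)) (t : Γ(Q.left, ⊤)) :
    (Spec.mapMulEquiv x ≫ q).left.appTop.hom t = (Scheme.ΓSpecIso (CommRingCat.of R)).inv.hom
      (x.ofConv ((Scheme.ΓSpecIso (CommRingCat.of A)).hom.hom (q.left.appTop.hom t))) := by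
  have h := congr($(Scheme.ΓSpecIso_inv_naturality (CommRingCat.ofHom x.ofConv.toRingHom)).hom
    ((Scheme.ΓSpecIso (CommRingCat.of A)).hom.hom (q.left.appTop.hom t)))
  refine Eq.trans ?_ h.symm
  change (Spec.map (CommRingCat.ofHom x.ofConv.toRingHom)).appTop.hom (q.left.appTop.hom t) = _
  simp

variable [Algebra.FiniteType k A]

/-- A normal closed subgroup is cut out by the functions invariant under it. -/
theorem exists_invariant_generators (I : Ideal A) [I.IsHopfIdeal k] (hI : SGA3.IsNormalHopfIdeal k A I) :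
    ∃ F : Set A,
      (∀ f ∈ F, ∀ (R : Type u) [CommRing R] [Algebra k R] (g w : WithConv (A →ₐ[k] R)),
        Chevalley.Kills I w → (g * w).ofConv f = g.ofConv f) ∧
      ∀ (R : Type u) [CommRing R] [Algebra k R] (x : WithConv (A →ₐ[k] R)),
        (∀ f ∈ F, x.ofConv f = algebraMap k R (Coalgebra.counit f)) → Chevalley.Kills I x := by
  let GN : Over S := (Spec (CommRingCat.of (A ⧸ I))).asOver S
  let i : GN ⟶ GA := Spec.mapMulEquiv (toConv (Ideal.Quotient.mkₐ k I))
  haveI : IsMonHom i := ((hopfSpec (CommRingCat.of k)).map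
    (CommHopfAlgCat.ofHom (Bialgebra.Quotient.mkBialgHom I) :
      CommHopfAlgCat.of k A ⟶ CommHopfAlgCat.of k (A ⧸ I)).op).hom.isMonHom_hom
  haveI : IsClosedImmersion i.left := IsClosedImmersion.spec_of_quotient_mk (R := CommRingCat.of A) I
  haveI : IsAffine (Over.left GA) := inferInstanceAs (IsAffine (Spec (CommRingCat.of A)))
  have hpt : ∀ (R : Type u) [CommRing R] [Algebra k R] (σ : A ⧸ I →ₐ[k] R),
      Spec.mapMulEquiv (toConv σ) ≫ i = Spec.mapMulEquiv (toConv (σ.comp (Ideal.Quotient.mkₐ k I))) := by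
    intro R _ _ σ
    refine Over.OverMorphism.ext ?_
    exact (Spec.map_comp (CommRingCat.ofHom (Ideal.Quotient.mkₐ k I).toRingHom) (CommRingCat.ofHom σ.toRingHom)).symm
  have hnorm : AlgGrp.IsNormalHom i := by
    intro T g n
    haveI : Mono i.left := inferInstance
    suffices h : ∀ j, ∃ m, m ≫ i.left = T.left.affineCover.f j ≫ (g * (n ≫ i) * g⁻¹).left by
      obtain ⟨m, hm⟩ := Chevalley.exists_lift_of_cover i _ T.left.affineCover h
      exact ⟨m, hm.symm⟩
    intro j
    obtain ⟨R, _, _, u, e, hu⟩ := Chevalley.exists_affine_pts (k := k) (T := T) j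
    obtain ⟨gg, hgg⟩ := Spec.mapMulEquiv.surjective (u ≫ g)
    obtain ⟨nn, hnn⟩ := Spec.mapMulEquiv.surjective (u ≫ n)
    let w : WithConv (A →ₐ[k] R) := toConv (nn.ofConv.comp (Ideal.Quotient.mkₐ k I))
    have hw : Chevalley.Kills I w := fun a ha => by
      change nn.ofConv (Ideal.Quotient.mk I a) = 0
      rw [Ideal.Quotient.eq_zero_iff_mem.2 ha, map_zero]
    have hw' : Chevalley.Kills I (gg * w * gg⁻¹) := fun a ha => by
      have := hI R gg.ofConv w.ofConv hw a ha
      rw [GrothLib.Hopf.conv3_eq] at this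
      exact this
    obtain ⟨σ, hσ⟩ := Chevalley.exists_of_kills I hw'
    refine ⟨eqToHom e.symm ≫ (Spec.mapMulEquiv (toConv σ)).left, ?_⟩
    have h1 : Spec.mapMulEquiv (toConv σ) ≫ i = u ≫ (g * (n ≫ i) * g⁻¹) := by
      rw [hpt, hσ, toConv_ofConv, map_mul, map_mul, map_inv, MonObj.comp_mul, MonObj.comp_mul, GrpObj.comp_inv,
        ← hgg, ← Category.assoc, ← hnn]
      congr 2
      exact (hpt R nn.ofConv).symm
    have h2 : (Spec.mapMulEquiv (toConv σ)).left ≫ i.left =
        (eqToHom e ≫ T.left.affineCover.f j) ≫ (g * (n ≫ i) * g⁻¹).left := by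
      rw [← hu]; exact congrArg (·.left) h1
    refine ((Category.assoc _ _ _).trans (congrArg (eqToHom e.symm ≫ ·) h2)).trans ?_
    simp
  haveI : LocallyOfFiniteType (Over.hom GA) :=
    locallyOfFiniteType_specOverSpec (R := CommRingCat.of k) (A := CommRingCat.of A)
  obtain ⟨Q, _, q, hq, hlft, -, -, hs, hker⟩ := Chevalley.exists_normal_quotient_affine i hnorm
  haveI : IsAffine Q.left := Chevalley.isAffine_of_surjective_hom q
  have hone : ∀ (R : Type u) [CommRing R] [Algebra k R] (w : WithConv (A →ₐ[k] R)),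
      Spec.mapMulEquiv w ≫ q = 1 ↔ Chevalley.Kills I w := by
    intro R _ _ w
    constructor
    · intro h a ha
      rw [Hom.one_def] at h
      obtain ⟨σ, hσ⟩ := Spec.mapMulEquiv.surjective (hker.lift _ _ h)
      have h2 : Spec.mapMulEquiv (toConv (σ.ofConv.comp (Ideal.Quotient.mkₐ k I))) = Spec.mapMulEquiv w := by
        rw [← hpt, toConv_ofConv, hσ]
        exact hker.lift_fst _ _ h
      rw [← Spec.mapMulEquiv.injective h2]
      change σ.ofConv (Ideal.Quotient.mk I a) = 0
      rw [Ideal.Quotient.eq_zero_iff_mem.2 ha, map_zero]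
    · intro h
      obtain ⟨σ, hσ⟩ := Chevalley.exists_of_kills I h
      rw [show w = toConv (σ.comp (Ideal.Quotient.mkₐ k I)) by rw [hσ], ← hpt, Category.assoc, hker.w,
        ← Category.assoc, Hom.one_def, toUnit_unique (Spec.mapMulEquiv (toConv σ) ≫ toUnit GN) (toUnit _)]
  refine ⟨Set.range fun t => (Scheme.ΓSpecIso (CommRingCat.of A)).hom.hom (q.left.appTop.hom t), ?_, ?_⟩
  · rintro _ ⟨t, rfl⟩ R _ _ g w hw
    have h : Spec.mapMulEquiv (g * w) ≫ q = Spec.mapMulEquiv g ≫ q := by
      rw [map_mul, MonObj.mul_comp, (hone R w).2 hw, _root_.mul_one]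
    have h2 := congrArg (fun m => m.left.appTop.hom t) h
    simp only [appTop_pt] at h2
    exact (ConcreteCategory.bijective_of_isIso (Scheme.ΓSpecIso (CommRingCat.of R)).inv).1 h2
  · intro R _ _ x hx
    refine (hone R x).1 ?_
    have h : Spec.mapMulEquiv x ≫ q = Spec.mapMulEquiv (1 : WithConv (A →ₐ[k] R)) ≫ q := by
      refine Over.OverMorphism.ext (ext_of_isAffine ?_)
      refine CommRingCat.hom_ext (RingHom.ext fun t => ?_)
      rw [appTop_pt, appTop_pt, hx _ ⟨t, rfl⟩]
      rfl
    rw [h, map_one, MonObj.one_comp]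

end GrothLib.NormalKerRep
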